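import Groth.Prelude
import Groth.Agent.FlatInjLib.ProjFlat
import Groth.Agent.FlatInjLib.Main
import Groth.Agent.FlatInjLib.AssFlat
import Groth.Agent.FlatInjLib.FibreBasisBase
import Groth.Agent.GeomPureLib.Proj
import Groth.Agent.GenRedLib.Basic
import Mathlib

/-!
# One step of a dévissage: injectivity and flatness of the cokernel
-/

set_option autoImplicit false
set_option linter.all false

universe u

open CategoryTheory CategoryTheory.Limits AlgebraicGeometry
open scoped TensorProduct

namespace DevissFreeLib

section Smooth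

variable {R B : Type u} [CommRing R] [CommRing B] [Algebra R B]

theorem irredFibres_of_geomIrred (h : FlatCA.GeomIrredFibres R B) : ContentLib.IrredFibres R B := by
  intro K _ _
  haveI : GeometricallyIrreducible (Spec.map (CommRingCat.ofHom (algebraMap R B))) := h
  let φ := Spec.map (CommRingCat.ofHom (algebraMap R B))
  let b := Spec.map (CommRingCat.ofHom (algebraMap R K))
  haveI : IrreducibleSpace ↥(pullback φ b) :=
    GeometricallyIrreducible.geometrically_irreducibleSpace b _ _ (IsPullback.of_hasPullback φ b)
  let i := pullbackSymmetry φ b ≪≫ pullbackSpecIso R K B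
  exact PrimeSpectrum.irreducibleSpace_iff_isPrime_nilradical.1
    (i.hom.homeomorph.irreducibleSpace_iff.1 inferInstance)

theorem projective_pi_of_geomIrred [Algebra.Smooth R B] (h : FlatCA.GeomIrredFibres R B) (r : ℕ) :
    Module.Projective R (Fin r → B) := by
  classical
  haveI : Module.Projective R B := GeomPureLib.projective_of_irredFibres (irredFibres_of_geomIrred h)
  haveI : Module.Projective R (DirectSum (Fin r) fun _ => B) := inferInstance
  exact Module.Projective.of_equiv (DirectSum.linearEquivFunOnFintype R (Fin r) (fun _ => B))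

theorem isDomain_fibre [Algebra.Smooth R B] (h : FlatCA.GeomIrredFibres R B) (p : Ideal R)
    [p.IsPrime] : IsDomain (p.ResidueField ⊗[R] B) := by
  haveI : _root_.IsReduced (p.ResidueField ⊗[R] B) :=
    isReduced_smooth p.ResidueField (p.ResidueField ⊗[R] B)
  have hP := irredFibres_of_geomIrred h p.ResidueField
  rw [show nilradical (p.ResidueField ⊗[R] B) = ⊥ from nilradical_eq_bot_iff.2 inferInstance] at hP
  exact IsDomain.of_bot_isPrime _

end Smooth

section Modules

variable {R B : Type u} [CommRing R] [CommRing B] [Algebra R B]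
  {M : Type u} [AddCommGroup M] [Module B M] [Module R M] [IsScalarTower R B M]

/-- A map inducing an injection at the generic point of the fibre is injective modulo `rr`. -/
theorem mem_smul_top_of_baseChange (rr : Ideal R) [(rr.map (algebraMap R B)).IsPrime] {r : ℕ}
    (α : (Fin r → B) →ₗ[B] M)
    (hα : Function.Injective (α.baseChange (rr.map (algebraMap R B)).ResidueField))
    (T : Submonoid B) (hT : ∀ t ∈ T, t ∉ rr.map (algebraMap R B))
    {M' : Type u} [AddCommGroup M'] [Module B M'] [Module R M'] [IsScalarTower R B M']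
    (f : M →ₗ[B] M') [IsLocalizedModule T f] (x : Fin r → B)
    (hx : f (α x) ∈ rr • (⊤ : Submodule R M')) : x ∈ rr • (⊤ : Submodule R (Fin r → B)) := by
  classical
  let ξ := rr.map (algebraMap R B)
  let κ := ξ.ResidueField
  have hu : ∀ t : T, IsUnit (algebraMap B (Module.End B (κ ⊗[B] M)) (t : B)) := fun t => by
    have h1 : IsUnit (algebraMap B κ (t : B)) :=
      Ne.isUnit fun h0 => hT _ t.2 (Ideal.algebraMap_residueField_eq_zero.1 h0)
    obtain ⟨c, hc⟩ := h1
    rw [Module.End.isUnit_iff]
    refine ⟨fun a b hab => ?_, fun a => ⟨(↑c⁻¹ : κ) • a, ?_⟩⟩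
    · have h2 : algebraMap B κ (t : B) • a = algebraMap B κ (t : B) • b := by
        simpa only [Module.algebraMap_end_apply, algebraMap_smul] using hab
      rw [← hc] at h2
      simpa only [smul_smul, Units.inv_mul, one_smul] using congrArg ((↑c⁻¹ : κ) • ·) h2
    · rw [Module.algebraMap_end_apply, ← algebraMap_smul κ (t : B), ← hc, smul_smul,
        Units.mul_inv, one_smul]
  let L : M' →ₗ[B] κ ⊗[B] M := IsLocalizedModule.lift T f (TensorProduct.mk B κ M 1) hu
  have hL : L (f (α x)) = (1 : κ) ⊗ₜ[B] α x := IsLocalizedModule.lift_apply T f _ hu _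
  have h0 : L (f (α x)) = 0 := by
    refine Submodule.smul_induction_on hx (fun a ha z _ => ?_) fun a b ha hb => by
      rw [map_add, ha, hb, add_zero]
    rw [← algebraMap_smul B a z, map_smul, ← algebraMap_smul κ (algebraMap R B a) (L z),
      show algebraMap B κ (algebraMap R B a) = 0 from
        Ideal.algebraMap_residueField_eq_zero.2 (Ideal.mem_map_of_mem _ ha), zero_smul]
  have h1 : (1 : κ) ⊗ₜ[B] x = 0 := hα (by rw [map_zero, LinearMap.baseChange_tmul, ← hL, h0])
  have hxi : ∀ i, x i ∈ ξ := fun i => by
    have h2 := congrArg ((LinearMap.proj (R := B) (φ := fun _ : Fin r => B) i).lTensor κ) h1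
    rw [map_zero, LinearMap.lTensor_tmul] at h2
    have h3 := congrArg (TensorProduct.rid B κ) h2
    rw [map_zero, TensorProduct.rid_tmul, Algebra.smul_def, mul_one] at h3
    exact Ideal.algebraMap_residueField_eq_zero.1 h3
  rw [show x = ∑ i, LinearMap.single R (fun _ => B) i (x i) from
    (Finset.univ_sum_single x).symm]
  refine Submodule.sum_mem _ fun i _ => ?_
  have h4 : x i ∈ rr • (⊤ : Submodule R B) := by
    rw [Ideal.smul_top_eq_map]; exact hxi i
  exact Submodule.smul_mono le_rfl le_top
    ((Submodule.map_smul'' rr ⊤ (LinearMap.single R (fun _ => B) i)).le (Submodule.mem_map_of_mem h4))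

/-- Universal injectivity passes from the composite with the localisation to the localised map. -/
theorem univInj_map_of_comp (T : Submonoid B) {F : Type u} [AddCommGroup F] [Module B F]
    [Module R F] [IsScalarTower R B F] (α : F →ₗ[B] M)
    (h : FlatCA.UnivInj R (((LocalizedModule.mkLinearMap T M) ∘ₗ α).restrictScalars R)) :
    FlatCA.UnivInj R ((LocalizedModule.map T α).restrictScalars R) := by
  intro Q _ _
  rw [LinearMap.lTensor_inj_iff_rTensor_inj]
  refine (injective_iff_map_eq_zero _).2 fun w hw => ?_
  let fF := LocalizedModule.mkLinearMap T F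
  let fM := LocalizedModule.mkLinearMap T M
  let ℓF := TensorProduct.AlgebraTensorModule.rTensor R Q fF
  let m := TensorProduct.AlgebraTensorModule.rTensor R Q ((LocalizedModule.map T α).restrictScalars B)
  obtain ⟨⟨z, t⟩, hzt⟩ := IsLocalizedModule.surj T ℓF w
  have hcomm : ∀ y, m (ℓF y) = ((fM ∘ₗ α).restrictScalars R).rTensor Q y := fun y => by
    induction y using TensorProduct.induction_on with
    | zero => simp
    | tmul a b =>
      show (LocalizedModule.map T α (LocalizedModule.mk a 1)) ⊗ₜ[R] b = LocalizedModule.mk (α a) 1 ⊗ₜ[R] b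
      rw [show LocalizedModule.map T α (LocalizedModule.mk a 1) = LocalizedModule.mk (α a) 1 from LocalizedModule.map_mk ..]
    | add a b ha hb => simp only [map_add, ha, hb]
  have h0 : ((fM ∘ₗ α).restrictScalars R).rTensor Q z = 0 := by
    rw [← hcomm, ← hzt]
    show m ((t : B) • w) = 0
    rw [map_smul]
    exact (congrArg _ hw).trans (smul_zero _)
  have hz : z = 0 := (LinearMap.lTensor_inj_iff_rTensor_inj _ _).1 (h Q) (h0.trans (map_zero _).symm)
  exact (Module.End.isUnit_iff _).1 (IsLocalizedModule.map_units ℓF t) |>.1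
    ((hzt.trans (by rw [hz, map_zero])).trans (map_zero _).symm)

/-- The cokernel of a localised universally injective map to a flat module is flat. -/
theorem flat_cokernel (T : Submonoid B) {F C : Type u} [AddCommGroup F] [Module B F]
    [Module R F] [IsScalarTower R B F] [AddCommGroup C] [Module B C] [Module R C] [IsScalarTower R B C]
    (α : F →ₗ[B] M) (g : M →ₗ[B] C) (hg : Function.Surjective g) (hex : Function.Exact α g)
    [Module.Flat R (LocalizedModule T M)]
    (h : FlatCA.UnivInj R ((LocalizedModule.map T α).restrictScalars R)) :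
    Module.Flat R (LocalizedModule T C) := by
  have hs : Function.Surjective (LocalizedModule.map T g) := fun y => by
    induction y using LocalizedModule.induction_on with
    | h c s => obtain ⟨m, rfl⟩ := hg c; exact ⟨LocalizedModule.mk m s, LocalizedModule.map_mk ..⟩
  have he : Function.Exact ((LocalizedModule.map T α).restrictScalars R)
      ((LocalizedModule.map T g).restrictScalars R) := LocalizedModule.map_exact T α g hex
  haveI := FlatInjLib.flat_quotient_range ((LocalizedModule.map T α).restrictScalars R) h
  exact Module.Flat.of_linearEquiv (he.linearEquivOfSurjective hs).symm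

theorem flat_localized_iff (U : Submonoid R) :
    Module.Flat R (LocalizedModule (Algebra.algebraMapSubmonoid B U) M) ↔
      Module.Flat R (LocalizedModule U M) := by
  haveI : IsLocalizedModule U
      ((LocalizedModule.mkLinearMap (Algebra.algebraMapSubmonoid B U) M).restrictScalars R) :=
    IsLocalizedModule.restrictScalars _ _
  exact (Module.Flat.equiv_iff (IsLocalizedModule.iso U
    ((LocalizedModule.mkLinearMap (Algebra.algebraMapSubmonoid B U) M).restrictScalars R))).symm

theorem flatAt_of_flat_localized (U : Submonoid R) (q : Ideal B) [q.IsPrime]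
    (hU : ∀ a ∈ U, algebraMap R B a ∉ q) (h : Module.Flat R (LocalizedModule U M)) :
    FlatCA.FlatAt R q M := by
  haveI := (flat_localized_iff (B := B) (M := M) U).2 h
  exact FlatInjLib.flat_of_isLocalizedModule q.primeCompl
    (IsLocalizedModule.liftOfLE (Algebra.algebraMapSubmonoid B U) q.primeCompl
      (by rintro _ ⟨a, ha, rfl⟩; exact hU a ha)
      (LocalizedModule.mkLinearMap (Algebra.algebraMapSubmonoid B U) M)
      (LocalizedModule.mkLinearMap q.primeCompl M))

/-- One step over a local ring. -/
theorem step_local [IsLocalRing R] [Algebra.Smooth R B] (hB : FlatCA.GeomIrredFibres R B)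
    [((IsLocalRing.maximalIdeal R).map (algebraMap R B)).IsPrime] {r : ℕ} (α : (Fin r → B) →ₗ[B] M)
    (hα : Function.Injective
      (α.baseChange ((IsLocalRing.maximalIdeal R).map (algebraMap R B)).ResidueField))
    (q : Ideal B) [q.IsPrime] (hq : (IsLocalRing.maximalIdeal R).map (algebraMap R B) ≤ q)
    (hM : FlatCA.FlatAt R q M) :
    Function.Injective α ∧ ∀ {C : Type u} [AddCommGroup C] [Module B C] [Module R C]
      [IsScalarTower R B C] (g : M →ₗ[B] C), Function.Surjective g → Function.Exact α g →
      FlatCA.FlatAt R q C := by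
  haveI := projective_pi_of_geomIrred hB r
  haveI : Module.Flat R (LocalizedModule q.primeCompl M) := hM
  have hv : FlatCA.UnivInj R
      (((LocalizedModule.mkLinearMap q.primeCompl M) ∘ₗ α).restrictScalars R) := by
    intro Q _ _
    refine FlatInjLib.univInj_of_projective_of_flat _ (fun m hm x hx => ?_) Q
    obtain rfl := IsLocalRing.eq_maximalIdeal hm
    exact mem_smul_top_of_baseChange _ α hα q.primeCompl (fun t ht htξ => ht (hq htξ))
      (LocalizedModule.mkLinearMap q.primeCompl M) x hx
  refine ⟨fun a b hab => ?_, fun g hg hex => flat_cokernel _ α g hg hex (univInj_map_of_comp _ α hv)⟩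
  refine (TensorProduct.lid R (Fin r → B)).symm.injective (hv R ?_)
  simp [hab]

theorem mem_smul_top_ker {A F P : Type u} [CommRing A] [AddCommGroup F] [Module A F] [AddCommGroup P]
    [Module A P] [Module.Flat A P] (I : Ideal A) (u : F →ₗ[A] P) (hs : Function.Surjective u)
    (x : LinearMap.ker u) (hx : (x : F) ∈ I • (⊤ : Submodule A F)) :
    x ∈ I • (⊤ : Submodule A (LinearMap.ker u)) := by
  have h5 := LinearMap.lTensor_injective_of_exact_of_flat u hs (LinearMap.ker u).subtype
    (LinearMap.ker u).subtype_injective (LinearMap.exact_subtype_ker_map _) (A ⧸ I)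
  have h6 : (LinearMap.ker u).subtype.lTensor (A ⧸ I)
      (TensorProduct.mk A (A ⧸ I) (LinearMap.ker u) 1 x) = 0 := by
    rw [TensorProduct.mk_apply, LinearMap.lTensor_tmul]
    exact LinearMap.mem_ker.1 ((LinearMap.ker_tensorProductMk (R := A) (Q := F) (I := I)).ge hx)
  exact (LinearMap.ker_tensorProductMk (R := A) (Q := LinearMap.ker u) (I := I)).le
    (LinearMap.mem_ker.2 (h5 (h6.trans (map_zero _).symm)))

/-- At the generic point of the fibre a fibrewise basis is a basis. -/
theorem bijective_at_generic [Algebra.Smooth R B] (rr : Ideal R)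
    [(rr.map (algebraMap R B)).IsPrime] {r : ℕ} (α : (Fin r → B) →ₗ[B] M)
    [Module.FinitePresentation B M]
    (hα : Function.Bijective (α.baseChange (rr.map (algebraMap R B)).ResidueField))
    (hM : FlatCA.FlatAt R (rr.map (algebraMap R B)) M) :
    Function.Bijective (LocalizedModule.map (rr.map (algebraMap R B)).primeCompl α) := by
  let ξ := rr.map (algebraMap R B)
  let Bx := Localization ξ.primeCompl
  let u := LocalizedModule.map ξ.primeCompl α
  have hs : Function.Surjective u := FlatInjLib.surjective_map_of_baseChange ξ α hα.2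
  haveI : Module.Flat R (LocalizedModule ξ.primeCompl M) := hM
  refine ⟨?_, hs⟩
  rw [← LinearMap.ker_eq_bot]
  have hK : ∀ k : LinearMap.ker u, k ∈ rr • (⊤ : Submodule R (LinearMap.ker u)) := by
    intro k
    have hk : (k : LocalizedModule ξ.primeCompl (Fin r → B)) ∈
        rr • (⊤ : Submodule R (LocalizedModule ξ.primeCompl (Fin r → B))) := by
      obtain ⟨x, hx⟩ := k
      show x ∈ _
      induction x using LocalizedModule.induction_on with
      | h y s =>
        have h1 : LocalizedModule.map ξ.primeCompl α (LocalizedModule.mk y s) = 0 := hx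
        rw [LocalizedModule.map_mk] at h1
        have h2 : LocalizedModule.mkLinearMap ξ.primeCompl M (α y) = 0 := by
          have h3 := congrArg ((s : B) • ·) h1
          simp only [smul_zero, LocalizedModule.smul'_mk] at h3
          rw [← Submonoid.smul_def, LocalizedModule.mk_cancel] at h3
          exact h3
        have h4 := mem_smul_top_of_baseChange rr α hα.1 ξ.primeCompl (fun t ht => ht)
          (LocalizedModule.mkLinearMap ξ.primeCompl M) y (h2 ▸ zero_mem _)
        let ψ : (Fin r → B) →ₗ[R] LocalizedModule ξ.primeCompl (Fin r → B) :=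
          { toFun := fun z => LocalizedModule.mk z s
            map_add' := fun a b => by
              rw [LocalizedModule.mk_add_mk]; exact LocalizedModule.mk_eq.2 ⟨1, by simp [smul_add, smul_smul, mul_comm]⟩
            map_smul' := fun c a => by
              rw [RingHom.id_apply, ← algebraMap_smul B c a, ← LocalizedModule.smul'_mk,
                algebraMap_smul] }
        exact Submodule.smul_mono le_rfl le_top
          ((Submodule.map_smul'' rr ⊤ ψ).le (Submodule.mem_map_of_mem h4))
    let K := LinearMap.ker (u.restrictScalars R)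
    let k' : K := ⟨k.1, k.2⟩
    have h7 : k' ∈ rr • (⊤ : Submodule R K) := mem_smul_top_ker rr (u.restrictScalars R) hs k' hk
    let j : K →ₗ[R] LinearMap.ker u :=
      { toFun := fun z => ⟨z.1, z.2⟩, map_add' := fun _ _ => rfl, map_smul' := fun _ _ => rfl }
    exact Submodule.smul_mono le_rfl le_top
      ((Submodule.map_smul'' rr ⊤ j).le (Submodule.mem_map_of_mem (f := j) h7))
  have hle : LinearMap.ker u ≤ (IsLocalRing.maximalIdeal Bx) • LinearMap.ker u := by
    intro x hx
    refine Submodule.smul_induction_on (p := fun z : LinearMap.ker u =>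
      (z : LocalizedModule ξ.primeCompl (Fin r → B)) ∈ IsLocalRing.maximalIdeal Bx • LinearMap.ker u)
      (hK ⟨x, hx⟩) (fun a ha z _ => ?_) fun a b ha hb => add_mem ha hb
    show a • (z : LocalizedModule ξ.primeCompl (Fin r → B)) ∈ _
    rw [← algebraMap_smul Bx a (z : LocalizedModule ξ.primeCompl (Fin r → B))]
    refine Submodule.smul_mem_smul ?_ z.2
    rw [IsScalarTower.algebraMap_apply R B Bx]
    exact (IsLocalization.AtPrime.to_map_mem_maximal_iff Bx ξ _).2 (Ideal.mem_map_of_mem _ ha)
  exact Submodule.eq_bot_of_le_smul_of_le_jacobson_bot (IsLocalRing.maximalIdeal Bx) _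
    (Module.FinitePresentation.fg_ker u hs) hle (IsLocalRing.maximalIdeal_le_jacobson _)

/-- One step near a prime of the base. -/
theorem step_nhd [Algebra.Smooth R B] (hB : FlatCA.GeomIrredFibres R B) (rr : Ideal R) [rr.IsPrime]
    [(rr.map (algebraMap R B)).IsPrime] {r : ℕ} (α : (Fin r → B) →ₗ[B] M)
    [Module.FinitePresentation B M]
    (hα : Function.Bijective (α.baseChange (rr.map (algebraMap R B)).ResidueField))
    (hM : FlatCA.FlatAt R (rr.map (algebraMap R B)) M) :
    ∃ f₀ : R, f₀ ∉ rr ∧ ∀ U : Submonoid R, (∃ c, f₀ * c ∈ U) →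
      FlatCA.UnivInj R
        ((LocalizedModule.map (Algebra.algebraMapSubmonoid B U) α).restrictScalars R) := by
  let ξ := rr.map (algebraMap R B)
  have hb := bijective_at_generic rr α hα hM
  obtain ⟨g, hg, hgb⟩ := Module.FinitePresentation.exists_notMem_bijective α ξ
    (LocalizedModule.mkLinearMap ξ.primeCompl (Fin r → B))
    (LocalizedModule.mkLinearMap ξ.primeCompl M) hb
  obtain ⟨Q, hQ, hQr⟩ : ∃ Q : Ideal B, Q.IsPrime ∧ Q.comap (algebraMap R B) = rr := by
    obtain ⟨y, hy⟩ := ContentLib.comap_surjective (irredFibres_of_geomIrred hB) ⟨rr, inferInstance⟩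
    exact ⟨y.asIdeal, y.isPrime, congrArg PrimeSpectrum.asIdeal hy⟩
  have hξr : ξ.comap (algebraMap R B) = rr := le_antisymm
    ((Ideal.comap_mono (Ideal.map_le_iff_le_comap.2 hQr.ge)).trans hQr.le) Ideal.le_comap_map
  obtain ⟨_, ⟨_, ⟨f₀, rfl⟩, rfl⟩, hf₀, hsub⟩ :=
    PrimeSpectrum.isBasis_basic_opens.exists_subset_of_mem_open
      (a := (⟨rr, inferInstance⟩ : PrimeSpectrum R))
      (u := PrimeSpectrum.comap (algebraMap R B) '' (PrimeSpectrum.basicOpen g : Set (PrimeSpectrum B)))
      ⟨⟨ξ, inferInstance⟩, hg, PrimeSpectrum.ext hξr⟩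
      (PrimeSpectrum.isOpenMap_comap_of_hasGoingDown_of_finitePresentation _
        (PrimeSpectrum.basicOpen g).isOpen)
  refine ⟨f₀, hf₀, fun U hU => FlatInjLib.univInj_map_of_bijective (fun p _ => isDomain_fibre hB p) α _
    fun q' _ hle hdisj => ⟨Submonoid.powers g, ?_, hgb⟩⟩
  obtain ⟨c, hc⟩ := hU
  have hfp : f₀ ∉ q'.comap (algebraMap R B) := fun h =>
    Set.disjoint_left.1 hdisj (show algebraMap R B (f₀ * c) ∈ (q' : Set B) by
      rw [map_mul]; exact q'.mul_mem_right _ h) ⟨f₀ * c, hc, rfl⟩
  obtain ⟨q'', hgq, hq''⟩ := hsub (show (⟨q'.comap (algebraMap R B), inferInstance⟩ : PrimeSpectrum R) ∈ _ from hfp)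
  have hgq' : g ∉ q' := fun h => hgq (Ideal.map_le_iff_le_comap.2
    (congrArg PrimeSpectrum.asIdeal hq'').ge (hle h))
  refine Set.disjoint_left.2 ?_
  rintro b hb ⟨n, rfl⟩
  exact hgq' (Ideal.IsPrime.mem_of_pow_mem inferInstance n hb)

end Modules

section FP

theorem fp_of_restrictScalars (B A M : Type u) [CommRing B] [CommRing A] [Algebra B A]
    [AddCommGroup M] [Module A M] [Module B M] [IsScalarTower B A M] [Module.Finite B A]
    [Module.FinitePresentation B M] : Module.FinitePresentation A M := by
  haveI : Module.Finite A M := Module.Finite.of_restrictScalars_finite B A M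
  obtain ⟨k, π, hπ⟩ := Module.Finite.exists_fin' A M
  refine Module.finitePresentation_of_surjective π hπ ?_
  obtain ⟨s, hs⟩ := Module.FinitePresentation.fg_ker (π.restrictScalars B) hπ
  refine ⟨s, le_antisymm (Submodule.span_le.2 fun x hx => ?_) fun x hx => ?_⟩
  · have : x ∈ LinearMap.ker (π.restrictScalars B) := hs ▸ Submodule.subset_span hx
    exact this
  · have : x ∈ Submodule.span B (s : Set (Fin k → A)) := hs ▸ hx
    exact Submodule.span_le_restrictScalars B A _ this

theorem fp_of_surjective (B A M : Type u) [CommRing B] [CommRing A] [Algebra B A]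
    [Algebra.FinitePresentation B A]
    [AddCommGroup M] [Module A M] [Module B M] [IsScalarTower B A M]
    (hs : Function.Surjective (algebraMap B A))
    [Module.FinitePresentation A M] : Module.FinitePresentation B M := by
  haveI : Module.Finite B A := Module.Finite.of_surjective (Algebra.linearMap B A) hs
  haveI : Module.FinitePresentation B A := Module.FinitePresentation.of_finite_of_finitePresentation B A
  exact Module.FinitePresentation.trans B M A

theorem fp_of_finite (R B A M : Type u) [CommRing R] [CommRing B] [CommRing A] [Algebra R B]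
    [Algebra R A] [Algebra B A] [IsScalarTower R B A] [Algebra.FinitePresentation R A]
    [Algebra.FiniteType R B] [Module.Finite B A] [AddCommGroup M] [Module A M] [Module B M]
    [IsScalarTower B A M] [Module.FinitePresentation A M] : Module.FinitePresentation B M := by
  haveI : Algebra.FinitePresentation B A :=
    Algebra.FinitePresentation.of_restrict_scalars_finitePresentation R B A
  haveI : Module.FinitePresentation B A := Module.FinitePresentation.of_finite_of_finitePresentation B A
  exact Module.FinitePresentation.trans B M A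

end FP

section Localized

variable {R B : Type u} [CommRing R] [CommRing B] [Algebra R B]

theorem comap_map_eq [Algebra.Smooth R B] (hB : FlatCA.GeomIrredFibres R B) (rr : Ideal R) [rr.IsPrime] :
    (rr.map (algebraMap R B)).comap (algebraMap R B) = rr := by
  obtain ⟨y, hy⟩ := ContentLib.comap_surjective (irredFibres_of_geomIrred hB) ⟨rr, inferInstance⟩
  have hQr : y.asIdeal.comap (algebraMap R B) = rr := congrArg PrimeSpectrum.asIdeal hy
  exact le_antisymm ((Ideal.comap_mono (Ideal.map_le_iff_le_comap.2 hQr.ge)).trans hQr.le)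
    Ideal.le_comap_map

theorem injective_map_of_univInj (U : Submonoid R) {F M : Type u} [AddCommGroup F] [Module B F]
    [Module R F] [IsScalarTower R B F] [AddCommGroup M] [Module B M] [Module R M] [IsScalarTower R B M]
    (α : F →ₗ[B] M)
    (h : FlatCA.UnivInj R ((LocalizedModule.map (Algebra.algebraMapSubmonoid B U) α).restrictScalars R)) :
    Function.Injective (LocalizedModule.map U (α.restrictScalars R)) := by
  let T := Algebra.algebraMapSubmonoid B U
  have hT : Function.Injective (LocalizedModule.map T α) := fun a b hab => by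
    refine (TensorProduct.lid R _).symm.injective (h R ?_)
    show (1 : R) ⊗ₜ[R] _ = (1 : R) ⊗ₜ[R] _
    exact congrArg _ hab
  refine (injective_iff_map_eq_zero _).2 fun x hx => ?_
  induction x using LocalizedModule.induction_on with
  | h y s =>
    rw [LocalizedModule.map_mk, ← LocalizedModule.zero_mk s, LocalizedModule.mk_eq] at hx
    obtain ⟨u, hu⟩ := hx
    simp only [smul_zero, LinearMap.restrictScalars_apply] at hu
    have h1 : LocalizedModule.map T α (LocalizedModule.mk y 1) = 0 := by
      rw [LocalizedModule.map_mk, ← LocalizedModule.zero_mk (1 : T), LocalizedModule.mk_eq]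
      refine ⟨⟨algebraMap R B ((u : R) * (s : R)), ⟨(u : R) * (s : R), U.mul_mem u.2 s.2, rfl⟩⟩, ?_⟩
      simp only [smul_zero, one_smul, Submonoid.smul_def, algebraMap_smul, mul_smul]
      simpa [Submonoid.smul_def] using hu
    have h2 := hT (h1.trans (map_zero _).symm)
    rw [← LocalizedModule.zero_mk (1 : T), LocalizedModule.mk_eq] at h2
    obtain ⟨⟨_, v, hv, rfl⟩, hvy⟩ := h2
    simp only [smul_zero, one_smul, Submonoid.smul_def, algebraMap_smul] at hvy
    rw [← LocalizedModule.zero_mk s, LocalizedModule.mk_eq]
    refine ⟨⟨v, hv⟩, ?_⟩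
    simp only [smul_zero, Submonoid.smul_def]
    rw [smul_comm, hvy, smul_zero]

theorem geomIrred_baseChange (A : Type u) [CommRing A] [Algebra R A]
    (hB : FlatCA.GeomIrredFibres R B) : FlatCA.GeomIrredFibres A (A ⊗[R] B) := by
  haveI : GeometricallyIrreducible (Spec.map (CommRingCat.ofHom (algebraMap R B))) := hB
  exact MorphismProperty.of_isPullback (P := @GeometricallyIrreducible)
    (isPullback_SpecMap_of_isPushout _ _ _ _ (CommRingCat.isPushout_tensorProduct R A B)).flip hB

end Localized

section Split

variable {R : Type u} [CommRing R]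

/-- A short exact sequence with projective end splits. -/
theorem exists_prod_equiv {F M C : Type u} [AddCommGroup F] [Module R F] [AddCommGroup M]
    [Module R M] [AddCommGroup C] [Module R C] [Module.Projective R C] (f : F →ₗ[R] M)
    (g : M →ₗ[R] C) (hf : Function.Injective f) (hg : Function.Surjective g)
    (hex : Function.Exact f g) : Nonempty ((F × C) ≃ₗ[R] M) := by
  obtain ⟨s, hs⟩ := Module.projective_lifting_property g LinearMap.id hg
  have hgs : ∀ c, g (s c) = c := LinearMap.congr_fun hs
  refine ⟨LinearEquiv.ofBijective (f.coprod s) ⟨(injective_iff_map_eq_zero _).2 ?_, fun m => ?_⟩⟩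
  · rintro ⟨a, c⟩ h
    rw [LinearMap.coprod_apply] at h
    have hc : c = 0 := by
      have := congrArg g h
      rwa [map_add, hex.apply_apply_eq_zero, zero_add, hgs, map_zero] at this
    subst hc
    rw [map_zero, add_zero] at h
    exact Prod.ext (hf (h.trans (map_zero f).symm)) rfl
  · obtain ⟨a, ha⟩ := (hex (m - s (g m))).1 (by rw [map_sub, hgs, sub_self])
    exact ⟨⟨a, g m⟩, by rw [LinearMap.coprod_apply, ha, sub_add_cancel]⟩

theorem exists_pi_equiv : ∀ (n : ℕ) (M T : ℕ → Type u) [∀ i, AddCommGroup (M i)]
    [∀ i, Module R (M i)] [∀ i, AddCommGroup (T i)] [∀ i, Module R (T i)],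
    (∀ i, i + 1 < n + 1 → Nonempty (M i ≃ₗ[R] T i × M (i + 1))) → Nonempty (M n ≃ₗ[R] T n) →
    Nonempty (M 0 ≃ₗ[R] ∀ i : Fin (n + 1), T i) := by
  intro n
  induction n with
  | zero =>
    intro M T _ _ _ _ _ h
    obtain ⟨e⟩ := h
    exact ⟨e.trans (LinearEquiv.piUnique R (fun i : Fin 1 => T i)).symm⟩
  | succ n ih =>
    intro M T _ _ _ _ hstep h
    obtain ⟨e⟩ := ih (fun i => M (i + 1)) (fun i => T (i + 1)) (fun i hi => hstep (i + 1) (by omega)) h
    obtain ⟨e0⟩ := hstep 0 (by omega)
    exact ⟨e0.trans ((LinearEquiv.prodCongr (LinearEquiv.refl R (T 0)) e).trans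
      (Fin.consLinearEquiv R (fun i : Fin (n + 2) => T i)))⟩

theorem exists_pi_equiv' (n : ℕ) (hn : 0 < n) (M T : ℕ → Type u) [∀ i, AddCommGroup (M i)]
    [∀ i, Module R (M i)] [∀ i, AddCommGroup (T i)] [∀ i, Module R (T i)]
    (hstep : ∀ i, i + 1 < n → Nonempty (M i ≃ₗ[R] T i × M (i + 1)))
    (hlast : Nonempty (M (n - 1) ≃ₗ[R] T (n - 1))) :
    Nonempty (M 0 ≃ₗ[R] ∀ i : Fin n, T i) := by
  cases n with
  | zero => omega
  | succ m => exact exists_pi_equiv m M T hstep hlast

end Split

section Basic

theorem flatAt_of_eq {R S N : Type u} [CommRing R] [CommRing S] [Algebra R S] [AddCommGroup N]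
    [Module S N] [Module R N] [IsScalarTower R S N] {q q' : Ideal S} [q.IsPrime] [q'.IsPrime]
    (h : q = q') (hf : FlatCA.FlatAt R q N) : FlatCA.FlatAt R q' N := by
  subst h
  exact hf

end Basic

end DevissFreeLib
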